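import Cfsg.Agent.MonU.TwoE6
import Cfsg.Agent.S3363

/-! `C(a,b) / ⟨a,b⟩` is `²E₆(2)` for a pure four-group of 2A involutions. -/

set_option autoImplicit false

namespace Cfsg.Agent.MonU.E6

open Cfsg Cfsg.Spor Cfsg.Agent.Spor Cfsg.Agent.Spor.Leech Subgroup Cfsg.Agent.TT Cfsg.Agent.LES
  Cfsg.Agent.Mon
open Cfsg.Agent.MonY.E0 (mem_c2)

variable {G : Type} [Group G] [Finite G] {z : G} {Q : Subgroup G}
  {π : centralizer ({z} : Set G) →* Co1} {ψ : leechLattice → G} {a b : G}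
  {H : Type*} [Group H] {m : centralizer ({a, b} : Set G) →* H}

theorem Quo.iso (q : Quo z Q π ψ a b m) (F : Type) [Field F] [Fintype F]
    (hF : Fintype.card F = 4) : Nonempty (H ≃* Lie.twistedE6 F 2) := by
  have : Finite H := .of_surjective m q.surj
  obtain ⟨y, R, lx, hO, hc, ⟨g, h1, h2⟩, γ, h3, h4⟩ := q.setting F hF
  obtain ⟨s1, s2, s3, s4, -⟩ := setting_of_LX lx hO.le (w := 10) hc h1 h2
  have e : R.subgroupOf (centralizer {y}) = pCore 2 _ :=
    hO ▸ comap_map_eq_self_of_injective (subtype_injective _) _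
  rw [e] at s2 s3 s4
  exact S3363.result y s1 _ rfl s2 s3 s4 F hF ((QuotientGroup.quotientMulEquivOfEq
    (e.symm.trans (c := γ.ker) (Subgroup.ext fun c => (h4 c).symm))).trans
      (QuotientGroup.quotientKerEquivOfSurjective γ h3)) ⟨g, hO.ge h1, h2⟩

/-- The general form. -/
theorem iso_of (h : If0 z Q π ψ) (ha : a ∈ cA ψ) (hb : b ∈ Dt ψ a) (hs : Function.Surjective m)
    (hk : ∀ x, m x = 1 ↔ (x : G) ∈ closure ({a, b} : Set G)) (F : Type) [Field F] [Fintype F]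
    (hF : Fintype.card F = 4) : Nonempty (H ≃* Lie.twistedE6 F 2) := by
  have r := fun v => Eqv.refl z (ψ v)
  have a0 := A_a h (r _)
  have b0 := D_b h (r _) (r _)
  obtain ⟨w, h1, h2⟩ := h.exists_inQ ha hb.1 (CD.commD h ha hb)
  obtain ⟨g, rfl, rfl, -⟩ := h.trans_triple a0 b0 ha hb (z_R h (r _) (r _)) (w := w) ⟨h1, h2⟩
  have key : ∀ x : G, g * x * g⁻¹ ∈ centralizer ({g * ψ leechU * g⁻¹, g * ψ x16 * g⁻¹} : Set G) ↔
      x ∈ centralizer {ψ leechU, ψ x16} := fun x => by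
    simp only [mem_c2, conj_mul, mul_left_inj, mul_right_inj]
  refine Quo.iso (m := m.comp ((((MulAut.conj g).toMonoidHom.comp (Subgroup.subtype _)).codRestrict
    _ fun x => (key x).2 x.2))) ⟨h, r _, r _, hs.comp fun y =>
      ⟨⟨g⁻¹ * y * g, (key _).1 (by simpa [mul_assoc] using y.2)⟩, ?_⟩, fun x => ?_⟩ F hF
  · ext; simp [mul_assoc]
  · rw [MonoidHom.comp_apply, hk, mem_E h ha hb, mem_E h a0 b0, conj_mul]
    simp

end Cfsg.Agent.MonU.E6
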