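import Cfsg.Agent.MonU.AmA

/-! Two-subgroups of `Co₀` normalised by an element of order 23. -/

set_option autoImplicit false

namespace Cfsg.Agent.MonU.Am

open Cfsg Cfsg.Spor Cfsg.Agent.Spor Cfsg.Agent.Spor.Leech Matrix Subgroup

/-- Coefficients from a list. -/
def cf (l : List ℤ) : ZMod 23 → ℤ := fun j => l.getD j.val 0

/-- First idempotent times `σ - 1`. -/
def c1 : ZMod 23 → ℤ := cf [-1, 0, 0, 0, 0, 1, -1, 1, -1, 0, 1, 0, -1, 0, 1, 0, -1, 1, -1, 1]
/-- Second idempotent times `σ - 1`. -/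
def c2 : ZMod 23 → ℤ := cf [0, 1, 0, 0, 0, -1, 1, -1, 1, 0, -1, 0, 1, 0, -1, 0, 1, -1, 1, -1]

theorem c12 (u : U) : cv c1 u + cv c2 u = σ • u - u := by
  have : ∀ j, c1 j + c2 j = (if j = 1 then 1 else 0) - (if j = 0 then 1 else 0) := by decide
  simp only [cv_apply, ← Finset.sum_add_distrib, ← add_smul, this, sub_smul, ite_smul, one_smul,
    zero_smul, Finset.sum_sub_distrib, Finset.sum_ite_eq', Finset.mem_univ, if_true, s_one, s_zero]

theorem nofix {c : ZMod 23 → ℤ} (hc : ∑ j, c j = 0) {u : U} (h : σ • cv c u = cv c u) :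
    cv c u = 0 := by
  have : cv 1 (cv c u) = cv c (cv 1 u) := by
    rw [cv_apply 1, cv_apply 1, map_sum]; simp only [map_zsmul, s_cv]
  rw [← cv_one_fix h, this, cv_fix _ (σ_cv_one u), hc, zero_smul]

theorem card_fpf (A : AddSubgroup U) (h1 : ∀ u ∈ A, σ • u ∈ A) (h2 : ∀ u ∈ A, σ • u = u → u = 0) :
    ∃ j, Nat.card A = 2 ^ (11 * j) := by
  obtain ⟨a, -, ha⟩ := (Nat.dvd_prime_pow Nat.prime_two).1 (card_U ▸ A.card_addSubgroup_dvd_card)
  have := Fact.mk (show Nat.Prime 23 by norm_num)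
  have h := cnt_set (p := 23) (A : Set U) (σ • ·) h1 fun u _ => by
    rw [smul_iterate, σ_pow]; exact one_smul _ _
  rw [show {x | x ∈ (A : Set U) ∧ σ • x = x} = {0} from Set.eq_singleton_iff_unique_mem.2
    ⟨⟨A.zero_mem, smul_zero _⟩, fun u hu => h2 u hu.1 hu.2⟩, Nat.card_unique (α := ({0} : Set U)),
    SetLike.coe_sort_coe, ha] at h
  obtain ⟨j, rfl⟩ := pow_mod23 h
  exact ⟨j, ha⟩

theorem full {c : ZMod 23 → ℤ} (hc : ∑ j, c j = 0) (hA : Nat.card (cv (X := U) c).range ≤ 2 ^ 12)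
    {M : AddSubgroup U} (hM : ∀ u ∈ M, σ • u ∈ M) {x : U} (h1 : cv c x ∈ M) (h0 : cv c x ≠ 0)
    (u : U) : cv c u ∈ M := by
  have a1 : ∀ u ∈ (cv (X := U) c).range, σ • u ∈ (cv (X := U) c).range := by
    rintro _ ⟨u, rfl⟩; exact ⟨σ • u, by rw [← s_one, s_cv]⟩
  have a2 : ∀ u ∈ (cv (X := U) c).range, σ • u = u → u = 0 := by
    rintro _ ⟨u, rfl⟩; exact nofix hc
  obtain ⟨i, hi⟩ := card_fpf _ a1 a2
  obtain ⟨j, hj⟩ := card_fpf (M ⊓ (cv c).range) (fun u hu => ⟨hM u hu.1, a1 u hu.2⟩)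
    fun u hu => a2 u hu.2
  have h2 : j ≠ 0 := by
    rintro rfl
    exact h0 ((AddSubgroup.eq_bot_iff_forall _).1 (AddSubgroup.card_eq_one.1 hj) _ ⟨h1, x, rfl⟩)
  rw [hi, Nat.pow_le_pow_iff_right (by decide)] at hA
  have := AddSubgroup.eq_of_le_of_card_ge (inf_le_right : M ⊓ (cv c).range ≤ _)
    (by rw [hi, hj]; exact Nat.pow_le_pow_right (by decide) (by omega))
  exact (this.ge ⟨u, rfl⟩).1

/-- A lattice vector from a list. -/
noncomputable def lv (l : List ℤ) (h : isLee l = true := by decide +kernel) : leechLattice :=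
  ⟨vecOf l, mem_of_isLee h⟩

theorem ψ_eq_of {v w : leechLattice} {x y : GolayPt → ℤ} (hv : (v : GolayPt → ℤ) = x)
    (hw : (w : GolayPt → ℤ) = y) (h : ∀ k : Fin 12,
      (dotInt x (uV k) - dotInt y (uV k)) % 16 = 0 ∧ (dotInt x (wV k) - dotInt y (wV k)) % 16 = 0) :
    ψ v = ψ w := by
  subst hv hw
  have k : ∀ u : leechLattice, (dotInt (v : GolayPt → ℤ) u - dotInt (w : GolayPt → ℤ) u) % 16 = 0 →
      ip2 v u = ip2 w u := fun u h => by
    have a := eight_dvd_dotInt v.2 u.2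
    have b := eight_dvd_dotInt w.2 u.2
    rw [ip2, ip2, ZMod.intCast_eq_intCast_iff_dvd_sub]; omega
  exact Prod.ext (funext fun j => k _ (h j).1) (funext fun j => k _ (h j).2)

/-- The vector `4 e₀ - 4 e_∞`. -/
noncomputable def u0 := lv [4,0,0,0,0,0,0,0,0,0,0,0,0,0,0,0,0,0,0,0,0,0,0,-4]
/-- The vector `4 e₁ - 4 e₀`. -/
noncomputable def v1 := lv [-4,4,0,0,0,0,0,0,0,0,0,0,0,0,0,0,0,0,0,0,0,0,0,0]
/-- A minimal vector orthogonal to its shifts. -/
noncomputable def r0 := lv [3,-1,-1,-1,-1,1,-1,1,-1,-1,1,1,-1,-1,1,1,-1,1,-1,1,1,1,1,1]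
/-- Auxiliary vector. -/
noncomputable def x0 := lv [2,0,2,0,2,2,0,0,2,0,0,0,2,0,0,0,2,2,0,0,0,0,0,0]
/-- Auxiliary vector. -/
noncomputable def x1 := lv [0,0,2,2,2,0,0,0,0,0,0,0,2,2,0,2,2,0,0,0,0,2,0,0]
/-- Auxiliary vector. -/
noncomputable def y64 := lv [1,-1,1,1,5,-1,-1,1,-1,-1,-1,1,-3,-1,-1,-3,1,1,-1,1,1,-1,-1,-1]

theorem c1_u0 : ψ (cv c1 u0) = ψ 0 := ψ_eq_of (cv_coord _ _) rfl (by decide +kernel)
theorem c2_u0 : ψ (cv c2 u0) = ψ v1 := ψ_eq_of (cv_coord _ _) rfl (by decide +kernel)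
theorem c1_x0 : ψ (cv c1 x0) = ψ (r0 - v3) := ψ_eq_of (cv_coord _ _) rfl (by decide +kernel)
theorem y64_eq : ψ (cv (cf [1, 1, 1]) r0) = ψ y64 := ψ_eq_of (cv_coord _ _) rfl (by decide +kernel)

theorem σ_e8 : σ • e8 none = e8 none := permHom_e8 _ _
theorem σ_u5 : σ • u5 = u5 := permHom_u5 rfl
theorem σ_v3 : σ • v3 = v3 := by rw [v3, smul_sub, σ_u5, σ_e8]

/-- Pairs. -/
def pr (a b : V12) : U := (a, b)

theorem c1_E (b : V12) : cv c1 (pr 0 b) = 0 := by
  refine Fr.v_ind (fun b => cv c1 (pr 0 b) = 0) (map_zero _) (fun x y a b => ?_)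
    (fun k => ?_) b
  · rw [show pr 0 (x + y) = pr 0 x + pr 0 y from Prod.ext (add_zero _).symm rfl, map_add, a, b,
      add_zero]
  · rw [show pr 0 (Pi.single k 1) = ψ (uV k) from (congrArg cl (psi_uV k)).symm]
    induction k using Fin.lastCases with
    | last =>
      rw [show uV (Fin.last 11) = e8 none from Subtype.ext (by decide +kernel),
        cv_fix _ (by rw [smul_ψ, σ_e8]), show ∑ j, c1 j = 0 by decide, zero_smul]
    | cast k =>
      have : (uV k.castSucc : GolayPt → ℤ) =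
          fun p => (u0 : GolayPt → ℤ) (p.map (· - ((12 + k.val : ℕ) : ZMod 23))) := by
        revert k; decide +kernel
      rw [Subtype.ext (this.trans (s_coord _ _).symm), ← smul_ψ, ← s_cv, ← ψ_cv, c1_u0, map_zero,
        smul_zero]

theorem card_V12 : Nat.card V12 = 2 ^ 12 := by simp

theorem card_c1 : Nat.card (cv (X := U) c1).range ≤ 2 ^ 12 := by
  rw [← card_V12]
  refine Nat.card_le_card_of_surjective (fun a : V12 => ⟨cv c1 (pr a 0), _, rfl⟩) ?_
  rintro ⟨_, u, rfl⟩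
  refine ⟨u.1, Subtype.ext ?_⟩
  have := map_add (cv c1) (pr u.1 0) (pr 0 u.2)
  rw [c1_E, add_zero] at this
  exact this.symm.trans (congrArg _ (Prod.ext (add_zero _) (zero_add _)))

theorem adj (u w : U) : B (cv c2 u) w = B u (cv c1 (s (-1) • w)) := by
  have : ∀ j, (c2 j : ZMod 2) = c1 (1 - j) := by decide
  rw [B_comm u, cv_apply, cv_apply]
  change Bl w _ = Bl u _
  rw [map_sum, map_sum]
  refine Fintype.sum_equiv (Equiv.subLeft 1) _ _ fun j => ?_
  rw [map_zsmul, map_zsmul, zsmul_eq_mul, zsmul_eq_mul, this, Equiv.subLeft_apply, smul_smul,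
    ← s_add, show 1 - j + -1 = -j by ring, s_neg]
  have : Bl w (s j • u) = Bl u ((s j)⁻¹ • w) :=
    ((B_comm _ _).trans (by rw [smul_inv_smul])).trans (B_smul (s j) _ u)
  rw [this]

theorem card_c2 : Nat.card (cv (X := U) c2).range ≤ 2 ^ 12 := by
  have h : ∀ u : U, (cv c2 u).1 = 0 := fun u => Fr.eq_of_dot (b' := 0) fun x => by
    have := adj u (pr 0 x)
    rw [← s_cv, c1_E, smul_zero, B_comm u, show B 0 u = 0 from map_zero (Bl u)] at this
    simpa [B, pr, dotProduct_comm] using this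
  rw [← card_V12]
  refine Nat.card_le_card_of_injective (fun a => a.1.2) ?_
  rintro ⟨_, u, rfl⟩ ⟨_, w, rfl⟩ e
  exact Subtype.ext (Prod.ext ((h u).trans (h w).symm) e)

theorem eq_one_of_e8 {k : Co0} (h : ∀ j, k • e8 (some j) = e8 (some j)) : k = 1 := by
  have h1 : ∀ v : leechLattice, (v : GolayPt → ℤ) none % 2 = 1 → k • v = v := fun v hv => by
    have a : ∀ j, ((k • v : leechLattice) : GolayPt → ℤ) (some j) = (v : GolayPt → ℤ) (some j) :=
      fun j => LES.Co.coord_of_e8 (h j) v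
    have b := sqNorm_smul k v
    have c := sixteen_dvd_sqNorm (k • v - v).2
    rw [sqNorm_option] at c
    rw [sqNorm_option, sqNorm_option] at b
    simp only [AddSubgroup.coe_sub, Pi.sub_apply, a, sub_self, add_left_inj] at b c
    refine Subtype.ext (funext fun p => ?_)
    cases p with
    | some j => exact a j
    | none =>
      rcases sq_eq_sq_iff_eq_or_eq_neg.1 b with e | e
      · exact e
      · obtain ⟨n, hn⟩ : ∃ n, (v : GolayPt → ℤ) none = 2 * n + 1 :=
          ⟨(v : GolayPt → ℤ) none / 2, by omega⟩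
        rw [e, hn, show (-(2 * n + 1) - (2 * n + 1)) ^ 2 = 16 * (n ^ 2 + n) + 4 by ring] at c
        simp at c
  refine co0_ext_e8 fun p => ?_
  cases p with
  | some j => exact h j
  | none =>
    have : e8 none = u5 - v3 := by rw [v3, sub_sub_cancel]
    rw [this, smul_sub, h1 u5 (by decide), h1 v3 (by decide), one_smul]

theorem eq_one_of_v1 {k : Co0} (h : ∀ j, k • s j • v1 = s j • v1) : k = 1 := by
  refine eq_one_of_e8 fun i => ?_
  have a : σ • (k • e8 (some i) - e8 (some i)) = k • e8 (some i) - e8 (some i) := by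
    have b : ∀ (j : ZMod 23) (y : leechLattice), dotForm (s j • v1) y =
        4 * ((y : GolayPt → ℤ) (some (j + 1)) - (y : GolayPt → ℤ) (some j)) := fun j y => by
      have : (fun p : GolayPt => (v1 : GolayPt → ℤ) (p.map (· - j))) =
          Pi.single (some (j + 1)) 4 + Pi.single (some j) (-4) := by revert j; decide +kernel
      rw [dotForm_apply, s_coord, this, dotInt_add_left, dotInt_single_left, dotInt_single_left]
      ring
    refine Subtype.ext (funext fun p => ?_)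
    obtain ⟨p, rfl⟩ := (t23 : Equiv.Perm GolayPt).surjective p
    rw [σ, permHom_smul']
    cases p with
    | none => rfl
    | some j =>
      have c := b j (k • e8 (some i) - e8 (some i))
      rw [map_sub, ← h j, dotForm_apply, dotInt_smul, h j, dotForm_apply, sub_self] at c
      rw [t23_some]; omega
  have b := fixed_t23_norm a
  have c := fixed_t23 a i
  have d := sqNorm_smul k (e8 (some i))
  have e : dotForm (k • e8 (some i) - e8 (some i)) (k • e8 (some i) - e8 (some i)) =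
      -16 * ((k • e8 (some i) - e8 (some i) : leechLattice) : GolayPt → ℤ) (some i) := by
    rw [map_sub, map_sub, LinearMap.sub_apply, LinearMap.sub_apply, dotForm_apply, dotInt_self, d,
      sqNorm_e8, dotForm_apply, dotForm_apply, dotForm_apply, dotInt_self, sqNorm_e8, coe_e8,
      dotInt_single_left, dotInt_single_right]
    simp; ring
  rw [dotForm_apply, dotInt_self, c] at e
  generalize k • e8 (some i) = y at *
  by_contra hne
  have f := min_norm (y - e8 (some i)).2 fun h0 => hne (sub_eq_zero.1 (Subtype.ext h0))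
  generalize ((y - e8 (some i) : leechLattice) : GolayPt → ℤ) = r at *
  nlinarith [sq_nonneg (r none), sq_nonneg (r (some 0) + 1)]

theorem center_of_sgn {k : Co0} {w : leechLattice} {ε : ZMod 23 → ℤ}
    (h1 : ∀ j, k • s j • w = ε j • s j • w) (h2 : ε 0 = 1 ∨ ε 0 = -1) (h3 : ∀ j, ε (j + 1) = ε j)
    (h4 : ∀ k : Co0, (∀ j, k • s j • w = s j • w) → k = 1) : k ∈ center Co0 := by
  have : ∀ j, ε j = ε 0 := zmod_ind rfl fun j e => (h3 j).trans e
  rcases h2 with e | e
  · exact mem_center_iff.2 (Or.inl (h4 k fun j => by rw [h1, this, e, one_smul]))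
  · refine mem_center_iff.2 (Or.inr ?_)
    rw [eq_inv_of_mul_eq_one_right (h4 (negOne * k) fun j => by
      rw [mul_smul, h1, this, e, negOne_smul, neg_smul, neg_neg, one_smul])]
    exact inv_eq_of_mul_eq_one_left negOne_mul_self

theorem exists_sgn {k : Co0} {w : leechLattice} (hw : sqNorm (w : GolayPt → ℤ) = 32)
    (h : ∀ j, k • s j • ψ w = s j • ψ w) :
    ∃ ε : ZMod 23 → ℤ, ∀ j, k • s j • w = ε j • s j • w ∧ (ε j = 1 ∨ ε j = -1) := by
  refine Classical.skolem (p := fun j (e : ℤ) => k • s j • w = e • s j • w ∧ (e = 1 ∨ e = -1)).1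
    fun j => ?_
  rcases pm_of_ψ (v := k • s j • w) (w := s j • w) (by rw [sqNorm_smul, sqNorm_smul, hw]; decide)
    (by rw [sqNorm_smul, hw]; decide) (by rw [← smul_ψ, ← smul_ψ, h]) with e | e
  · exact ⟨1, by rw [e, one_smul], Or.inl rfl⟩
  · exact ⟨-1, by rw [e, neg_smul, one_smul], Or.inr rfl⟩

theorem center_of_v1 {k : Co0} (h : ∀ j, k • s j • ψ v1 = s j • ψ v1) : k ∈ center Co0 := by
  obtain ⟨ε, hε⟩ := exists_sgn (by decide +kernel) h
  refine center_of_sgn (fun j => (hε j).1) (hε 0).2 (fun j => ?_) fun _ => eq_one_of_v1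
  have a : dotForm (s j • v1) (s (j + 1) • v1) = -16 := by
    rw [s_add, mul_smul, dotForm_apply, dotInt_smul, s_coord]; decide +kernel
  have b : dotForm (k • s j • v1) (k • s (j + 1) • v1) = -16 := by
    rw [dotForm_apply, dotInt_smul, ← a]; rfl
  rw [(hε j).1, (hε _).1, map_zsmul, map_zsmul, LinearMap.smul_apply, a] at b
  rcases (hε j).2 with e | e <;> rcases (hε (j + 1)).2 with e' | e' <;> simp_all

/-- Coordinates of `v1` in the orthogonal frame. -/
def ca : ZMod 23 → ℤ := cf [-2, 1, 0, 0, 0, 1, -1, 1, -1, 0, 1, 0, -1, 0, 1, 0, -1, 1, -1, 1]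

theorem v1_eq : v1 + v1 + (v1 + v1) = cv ca r0 :=
  Subtype.ext (Eq.trans (by decide +kernel) (cv_coord _ _).symm)

theorem sgn56 {k : Co0} {ε : ZMod 23 → ℤ}
    (h : ∀ j, k • s j • r0 = ε j • s j • r0 ∧ (ε j = 1 ∨ ε j = -1)) : ε 6 = ε 5 := by
  have a : ∀ j, ca j * dotForm (s j • r0) x1 = if j = 0 then 16 else if j = 5 then 8 else
      if j = 6 then -8 else if j = 16 then -16 else 0 := fun j => by
    rw [dotForm_apply, s_coord]; revert j; decide +kernel
  have b := congrArg (fun v => dotForm (k • v) x1) v1_eq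
  simp only [cv_apply, Finset.smul_sum, smul_zs, (h _).1, map_sum, map_smul, smul_add, map_add,
    LinearMap.add_apply, LinearMap.sum_apply, LinearMap.smul_apply, smul_eq_mul,
    mul_left_comm (ca _), a] at b
  have c := eight_dvd_dotInt (k • v1).2 x1.2
  rw [← dotForm_apply] at c
  rw [← Finset.sum_subset (Finset.subset_univ {0, 5, 6, 16}) fun j _ hj => by
    simp only [Finset.mem_insert, Finset.mem_singleton, not_or] at hj
    simp [hj]] at b
  rw [Finset.sum_insert (by decide), Finset.sum_insert (by decide), Finset.sum_pair (by decide),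
    if_pos rfl, if_neg (by decide), if_pos rfl, if_neg (by decide), if_neg (by decide), if_pos rfl,
    if_neg (by decide), if_neg (by decide), if_neg (by decide), if_pos rfl] at b
  have := (h 0).2
  have := (h 5).2
  have := (h 6).2
  have := (h 16).2
  omega

theorem center_of_r0 {k : Co0} (h : ∀ j, k • s j • ψ r0 = s j • ψ r0) : k ∈ center Co0 := by
  obtain ⟨ε, hε⟩ := exists_sgn (by decide +kernel) h
  refine center_of_sgn (fun j => (hε j).1) (hε 0).2 (fun j => ?_) fun k hk => eq_one_of_v1 fun j => ?_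
  · have := sgn56 (k := (s (j - 5))⁻¹ * k * s (j - 5)) (ε := fun i => ε (j - 5 + i)) fun i =>
      ⟨by rw [mul_smul, mul_smul, smul_smul (s _), ← s_add, (hε _).1, smul_zs, s_add, mul_smul,
        inv_smul_smul], (hε _).2⟩
    simpa only [sub_add_cancel, show j - 5 + 6 = j + 1 by ring] using this
  · refine two_smul_inj (two_smul_inj ?_)
    simp only [← smul_add, v1_eq, cv_apply, Finset.smul_sum, smul_zs, smul_smul (s j), ← s_add, hk]

theorem comm_σ {k : Co0} (h : k⁻¹ * (σ * k * σ⁻¹) ∈ center Co0) : σ * k = k * σ := by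
  rcases Leech.mem_center_iff.1 h with e | e
  · rw [inv_mul_eq_one, eq_mul_inv_iff_mul_eq] at e; exact e.symm
  · have a : k⁻¹ * σ * k⁻¹⁻¹ = negOne * σ := by rw [← e]; group
    have b := congrArg (· ^ 23) a
    rw [conj_pow, σ_pow, (show Commute negOne σ from (negOne_comm _).symm).mul_pow, σ_pow,
      show 23 = 2 * 11 + 1 from rfl, pow_succ, pow_mul, pow_two, negOne_mul_self] at b
    exact absurd (by simpa using b.symm) negOne_ne_one

theorem pow23_of_fix {k : Co0} (h : σ * k = k * σ) (h1 : k • e8 none = e8 none) : k ^ 23 = 1 := by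
  have d : ∀ p, dotInt (v3 : GolayPt → ℤ) (e8 p) = if p = none then -24 else 8 := by decide +kernel
  have h2 : k • v3 = v3 := by
    refine (fixed_t23_32 (y := k • v3) (by rw [← σ, ← mul_smul, h, mul_smul, σ_v3])
      ((sqNorm_smul _ _).trans sqNorm_v3)).resolve_right fun e => ?_
    have := dotInt_smul k v3 (e8 none)
    rw [e, h1, AddSubgroup.coe_neg, dotInt_neg_left, d] at this
    exact absurd this (by decide)
  obtain ⟨a, ha⟩ : ∃ a, k • e8 (some 0) = e8 (some a) := by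
    obtain ⟨p, hp⟩ := smul_e8_of_smul_e8 (Or.inl h1) (some 0)
    have := dotInt_smul k v3 (e8 (some 0))
    rw [h2, d] at this
    rcases hp with e | e <;> rw [e] at this
    · cases p with
      | none => exact absurd ((d _).symm.trans this) (by decide)
      | some a => exact ⟨a, e⟩
    · rw [AddSubgroup.coe_neg, dotInt_comm, dotInt_neg_left, dotInt_comm, d] at this
      split_ifs at this <;> omega
  have h3 : ∀ i j, s i • e8 (some j) = e8 (some (i + j)) := fun i j => by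
    induction i using zmod_ind with
    | h0 => rw [s_zero, one_smul, zero_add]
    | h1 i ih => rw [add_comm, s_add, mul_smul, ih, s_one, σ, permHom_e8, t23_some]; congr 2; ring
  have h4 : ∀ i, Commute k (s i) := fun i => Commute.pow_right h.symm _
  have h5 : (s a)⁻¹ * k = 1 := eq_one_of_e8 fun j => by
    rw [mul_smul, inv_smul_eq_iff, h3, ← add_zero j, ← h3, ← mul_smul, (h4 j).eq, mul_smul, ha, h3,
      add_zero, add_comm]
  rw [← inv_mul_eq_one.1 h5, s, ← pow_mul, mul_comm, pow_mul, σ_pow, one_pow]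

theorem two_cent {k : Co0} {n : ℕ} (h : σ * k = k * σ) (hn : k ^ 2 ^ n = 1) : k ∈ center Co0 := by
  have key : ∀ k : Co0, k ^ 23 = 1 → k ^ 2 ^ (n + 1) = 1 → k = 1 := fun k a b => by
    rw [← orderOf_eq_one_iff]
    exact Nat.eq_one_of_dvd_coprimes (Nat.Coprime.pow_right (n + 1) (by norm_num : Nat.Coprime 23 2))
      (orderOf_dvd_of_pow_eq_one a) (orderOf_dvd_of_pow_eq_one b)
  rcases fixed_t23_64 (y := k • e8 none) (by rw [← σ, ← mul_smul, h, mul_smul, σ_e8])
    ((sqNorm_smul _ _).trans (sqNorm_e8 _)) with e | e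
  · exact key k (pow23_of_fix h e) (by rw [pow_succ, pow_mul, hn, one_pow]) ▸ one_mem _
  · have c : Commute negOne k := (negOne_comm _).symm
    have := key (negOne * k) (pow23_of_fix (by rw [← mul_assoc, negOne_comm, mul_assoc, h, mul_assoc])
      (by rw [mul_smul, e, negOne_smul, neg_neg])) (by
        rw [c.mul_pow, pow_succ', pow_mul, pow_two, negOne_mul_self, one_pow, one_mul, mul_comm,
          pow_mul, hn, one_pow])
    rw [eq_inv_of_mul_eq_one_right this]
    exact inv_mem (mem_center_iff.2 (Or.inr rfl))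

theorem comm_of_fix_c1 {K : Subgroup Co0} (hK : ∀ k ∈ K, σ * k * σ⁻¹ ∈ K)
    (h : ∀ k ∈ K, ∀ u : U, k • cv c1 u = cv c1 u) {k : Co0} (hk : k ∈ K) : σ * k = k * σ := by
  have f3 : σ • ψ v3 = ψ v3 := by rw [smul_ψ, σ_v3]
  have hr : ∀ j, ∃ u, s j • ψ r0 = ψ v3 + cv c1 u := fun j => ⟨s j • ψ x0, by
    rw [← s_cv, ← ψ_cv, c1_x0, map_sub, smul_sub, s_fix f3, add_sub_cancel]⟩
  let R : AddSubgroup U :=
    { carrier := {x | (∃ u, x = cv c1 u) ∧ ∃ k ∈ K, k • ψ v3 = ψ v3 + x}
      zero_mem' := ⟨⟨0, (map_zero _).symm⟩, 1, one_mem _, by simp⟩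
      add_mem' := by
        rintro _ _ ⟨⟨u, rfl⟩, k, a, b⟩ ⟨⟨u', rfl⟩, k', a', b'⟩
        exact ⟨⟨_, (map_add _ _ _).symm⟩, k * k', mul_mem a a', by
          rw [mul_smul, b', smul_add, b, h k a, add_assoc]⟩
      neg_mem' := fun {x} hx => by rwa [neg_eq_of_add_eq_zero_left (U.add_self x)] }
  have key : ∀ k ∈ K, ∀ u, k • ψ v3 = ψ v3 + cv c1 u → k ∈ center Co0 := fun k hk u e => by
    have h0 : cv c1 u = 0 := by
      by_contra h0
      have hR := full (M := R) (by decide) card_c1 (by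
        rintro _ ⟨⟨u, rfl⟩, k, a, b⟩
        refine ⟨⟨σ • u, by rw [← s_one, s_cv]⟩, _, hK k a, ?_⟩
        rw [mul_smul, mul_smul, inv_smul_eq_iff.2 f3.symm, b, smul_add, f3]) ⟨⟨u, rfl⟩, k, hk, e⟩ h0
      obtain ⟨a, ha⟩ := hr 0
      obtain ⟨b, hb⟩ := hr 1
      obtain ⟨c, hc⟩ := hr 2
      obtain ⟨-, g, -, hg⟩ := hR (a + b + c)
      have : ∀ j, cf [1, 1, 1] j = (if j = 0 then 1 else 0) + (if j = 1 then 1 else 0) +
        (if j = 2 then 1 else 0) := by decide
      have e : ψ y64 = ψ (g • v3) := by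
        rw [← y64_eq, ψ_cv, ← smul_ψ, hg, map_add, map_add]
        simp only [cv_apply (cf _), this, add_smul, ite_smul, one_smul, zero_smul,
          Finset.sum_add_distrib, Finset.sum_ite_eq', Finset.mem_univ, if_true, ha, hb, hc]
        generalize ψ v3 = x, cv c1 a = a, cv c1 b = b, cv c1 c = c
        rw [← add_zero (x + (a + b + c)), ← U.add_self x]; abel
      have := norm_of_ψ (by decide +kernel) (by rw [sqNorm_smul, sqNorm_v3]; decide) e
      rw [sqNorm_smul, sqNorm_v3] at this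
      exact absurd this (by decide +kernel)
    rw [h0, add_zero] at e
    refine center_of_r0 fun j => ?_
    obtain ⟨a, ha⟩ := hr j
    rw [ha, smul_add, e, h k hk]
  have h2 : cv c2 (k • ψ v3) = 0 := eq_zero_of_B fun w => by
    rw [adj, ← h k hk, B_smul, ← adj, cv_fix _ f3, show ∑ j, c2 j = 0 by decide, zero_smul]
    exact map_zero (Bl w)
  refine comm_σ (key _ (mul_mem (inv_mem hk) (hK k hk)) (k • ψ v3) ?_)
  have := c12 (k • ψ v3)
  rw [h2, add_zero] at this
  rw [mul_smul, mul_smul, mul_smul, inv_smul_eq_iff.2 f3.symm, inv_smul_eq_iff, smul_add, h k hk,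
    this, add_sub_cancel]

theorem fixU {K : Subgroup Co0} (hK : ∀ k ∈ K, σ * k * σ⁻¹ ∈ K) (h2 : IsPGroup 2 K)
    (hc : ¬ K ≤ center Co0) {u : U} (hu : ∀ k ∈ K, k • u = u) : σ • u = u := by
  have hs : ∀ j, ∀ k ∈ K, s j * k * (s j)⁻¹ ∈ K := zmod_ind (by simp [s_zero]) fun j ih k hk => by
    have := ih _ (hK k hk)
    rwa [s_add, s_one, _root_.mul_inv_rev, ← mul_assoc, mul_assoc _ σ, mul_assoc _ _ σ⁻¹]
  obtain ⟨M, eM⟩ : ∃ M : AddSubgroup U, ∀ x, x ∈ M ↔ ∀ k ∈ K, k • x = x :=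
    ⟨{ carrier := {x | ∀ k ∈ K, k • x = x}
       zero_mem' := fun _ _ => smul_zero _
       add_mem' := fun a b k hk => by rw [smul_add, a k hk, b k hk]
       neg_mem' := fun a k hk => by rw [smul_neg, a k hk] }, fun _ => Iff.rfl⟩
  have hM : ∀ j, ∀ x ∈ M, s j • x ∈ M := fun j x hx => (eM _).2 fun k hk => by
    have := (eM _).1 hx _ (hs (-j) k hk)
    rwa [s_neg, inv_inv, mul_smul, mul_smul, inv_smul_eq_iff] at this
  have hM1 : ∀ x ∈ M, σ • x ∈ M := fun x hx => by rw [← s_one]; exact hM 1 x hx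
  have hcv : ∀ c, cv c u ∈ M := fun c => by
    rw [cv_apply]; exact sum_mem fun j _ => M.zsmul_mem (hM j u ((eM _).2 hu)) _
  by_contra h
  refine hc fun k hk => ?_
  by_cases h1 : cv c1 u = 0
  · have h3 : cv c2 u ≠ 0 := fun e => h (by rw [← sub_eq_zero, ← c12, h1, e, add_zero])
    have := full (by decide) card_c2 hM1 (hcv c2) h3 (ψ u0)
    rw [← ψ_cv, c2_u0] at this
    exact center_of_v1 fun j => (eM _).1 (hM j _ this) k hk
  · obtain ⟨n, hn⟩ := h2 ⟨k, hk⟩
    exact two_cent (comm_of_fix_c1 hK (fun k hk x => (eM _).1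
      (full (by decide) card_c1 hM1 (hcv c1) h1 x) k hk) hk) (congrArg Subtype.val hn)

/-- An invariant subgroup containing an odd class is everything. -/
theorem gen_top {M : AddSubgroup U} (hM : ∀ g ∈ monoSub, ∀ u ∈ M, g • u ∈ M)
    (h : ψ v3 ∈ M ∨ ψ u5 ∈ M) (u : U) : u ∈ M := by
  obtain ⟨w, n, hw, hn, e⟩ : ∃ (w : leechLattice) (n : ℤ), ψ w ∈ M ∧ (n = 1 ∨ n = -1) ∧
      ∀ i, (w : GolayPt → ℤ) i = if i = none then 1 + 4 * n else 1 :=
    h.elim (fun h => ⟨v3, -1, h, Or.inr rfl, v3_apply⟩) fun h => ⟨u5, 1, h, Or.inl rfl, u5_apply⟩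
  have hn' : ∀ v, ψ (n • v) ∈ M → ψ v ∈ M := fun v hv => by
    rcases hn with rfl | rfl
    · simpa using hv
    · simpa using hv
  have h1 : ∀ p, ∃ w : leechLattice, ψ w ∈ M ∧
      ∀ i, (w : GolayPt → ℤ) i = if i = p then 1 + 4 * n else 1 := fun p => by
    obtain ⟨π, rfl⟩ := M24_trans none p
    exact ⟨permHom π • w, smul_ψ _ _ ▸ hM _ (permHom_mem π) _ hw, fun i => by
      simp [permHom_smul, e, Equiv.symm_apply_eq]⟩
  have h2 : ∀ c hc, ψ (w - sgn c hc • w) ∈ M := fun c hc => by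
    rw [map_sub, ← smul_ψ]; exact M.sub_mem hw (hM _ (sgn_mem c hc) _ hw)
  have h3 : ∀ c hc p, p ∉ c → ψ (two_ind c hc) ∈ M := fun c hc p hp => by
    obtain ⟨w, hw, e⟩ := h1 p
    have : two_ind c hc = w - sgn c hc • w := Subtype.ext (funext fun i => by
      rw [AddSubgroup.coe_sub, Pi.sub_apply, sgn_smul, e, two_ind]
      by_cases a : i = p
      · simp [a, hp]
      · by_cases b : i ∈ c <;> simp [a, b])
    rw [this, map_sub, ← smul_ψ]; exact M.sub_mem hw (hM _ (sgn_mem c hc) _ hw)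
  have h4 : ψ (e8 none) ∈ M := by
    obtain ⟨c, hc, a, b⟩ := exists_GC_sep (p := none) (q := some 0) (by decide)
    refine hn' _ ?_
    have : n • e8 none = w - sgn c hc • w - two_ind c hc := Subtype.ext (funext fun i => by
      rw [AddSubgroup.coe_sub, AddSubgroup.coe_sub, Pi.sub_apply, Pi.sub_apply, sgn_smul, e, two_ind]
      by_cases a' : i = none
      · simp [a', a]; ring
      · by_cases b : i ∈ c <;> simp [a', b])
    rw [this, map_sub]
    exact M.sub_mem (h2 c hc) (h3 c hc _ b)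
  obtain ⟨v, rfl⟩ := ψ_surj u
  refine Fr.bas_ind (fun v => ψ v ∈ M) (by simp) (fun _ _ a b => map_add ψ _ _ ▸ M.add_mem a b)
    (fun _ a => map_neg ψ _ ▸ M.neg_mem a) (fun k => ?_) v
  have : ∀ k : Fin 24, ((∀ p, (bas k : GolayPt → ℤ) p = 0 ∨ (bas k : GolayPt → ℤ) p = 2) ∧
      (bas k : GolayPt → ℤ) (some 11) = 0) ∨ bas k = v3 ∨ bas k = e8 none ∨
      ∃ j : ZMod 23, ∀ i, ((bas k - e8 none : leechLattice) : GolayPt → ℤ) i =
        if i = some j then 4 else if i = none then -4 else 0 := by decide +kernel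
  rcases this k with ⟨a, b⟩ | a | a | ⟨j, a⟩
  · have hc := GC_of_even (bas k).2 (c := Finset.univ.filter fun p => (bas k : GolayPt → ℤ) p = 2)
      fun i => by rcases a i with e | e <;> simp [e]
    have : bas k = two_ind _ hc := Subtype.ext (funext fun i => by
      rcases a i with e | e <;> simp [e, two_ind])
    exact this ▸ h3 _ hc (some 11) (by simp [b])
  · rw [a]
    refine h.elim id fun h => ?_
    rw [v3, map_sub]; exact M.sub_mem h h4
  · exact a ▸ h4
  · obtain ⟨w', hw', e'⟩ := h1 (some j)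
    have : n • (bas k - e8 none) = w' - w := Subtype.ext (funext fun i => by
      rw [AddSubgroup.coe_zsmul, Pi.smul_apply, a, AddSubgroup.coe_sub, Pi.sub_apply, e, e']
      split_ifs <;> simp_all <;> ring)
    have := M.add_mem (hn' _ (by rw [this, map_sub]; exact M.sub_mem hw' hw)) h4
    rwa [← map_add, sub_add_cancel] at this

end Cfsg.Agent.MonU.Am
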