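import Cfsg.Agent.Spor.Parker
import Cfsg.Agent.Spor.LeechBasis
import Cfsg.Agent.Grp.Clifford

/-!
The group `C = 2^(1+24).Co₁` as compatible pairs in `Co₀ × O(4096)` modulo `(-1,-1)`, its named
elements, the triality relation `Beta` and gate descriptions of elements.
-/

set_option autoImplicit false

namespace Cfsg.Agent.MonU

open Cfsg Cfsg.Agent.Comp Cfsg.Agent.Spor Cfsg.Agent.Spor.M24C Cfsg.Agent.Spor.GD
  Cfsg.Agent.Spor.Parker Cfsg.Agent.Spor.Leech Matrix

/-- Index set of the 4096-dimensional module: bits `0..10` are coordinates of a word of `C11`,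
bit `11` is a parity. -/
abbrev V12 : Type := Fin 12 → ZMod 2

/-- Real sign of a bit. -/
noncomputable abbrev sg (a : ZMod 2) : ℝ := Cliff.s a

theorem sg_add (a b : ZMod 2) : sg (a + b) = sg a * sg b := Cliff.s_add a b

/-- Integer sign of a bit. -/
def sz (a : ZMod 2) : ℤ := if a = 0 then 1 else -1

/-- The extraspecial group `2^(1+24)`: translation `a`, character `b`, sign `e`. -/
@[ext] structure HQ where
  a : V12
  b : V12
  e : ZMod 2
  deriving DecidableEq

instance : Mul HQ := ⟨fun x y => ⟨x.a + y.a, x.b + y.b, x.e + y.e + x.b ⬝ᵥ y.a⟩⟩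
instance : One HQ := ⟨⟨0, 0, 0⟩⟩
instance : Inv HQ := ⟨fun x => ⟨x.a, x.b, x.e + x.b ⬝ᵥ x.a⟩⟩

@[simp] theorem HQ.mul_a (x y : HQ) : (x * y).a = x.a + y.a := rfl
@[simp] theorem HQ.mul_b (x y : HQ) : (x * y).b = x.b + y.b := rfl
@[simp] theorem HQ.mul_e (x y : HQ) : (x * y).e = x.e + y.e + x.b ⬝ᵥ y.a := rfl
@[simp] theorem HQ.one_a : (1 : HQ).a = 0 := rfl
@[simp] theorem HQ.one_b : (1 : HQ).b = 0 := rfl
@[simp] theorem HQ.one_e : (1 : HQ).e = 0 := rfl
@[simp] theorem HQ.inv_a (x : HQ) : x⁻¹.a = x.a := rfl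
@[simp] theorem HQ.inv_b (x : HQ) : x⁻¹.b = x.b := rfl
@[simp] theorem HQ.inv_e (x : HQ) : x⁻¹.e = x.e + x.b ⬝ᵥ x.a := rfl

@[simp] theorem V12.add_self (x : V12) : x + x = 0 := by funext k; exact GD.add_self _

instance : Group HQ := Group.ofLeftAxioms
  (fun x y z => by
    ext1
    · simp [add_assoc]
    · simp [add_assoc]
    · simp only [HQ.mul_e, HQ.mul_a, HQ.mul_b, add_dotProduct, dotProduct_add]; ring)
  (fun x => by ext1 <;> simp)
  (fun x => by
    ext1
    · simp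
    · simp
    · simp only [HQ.mul_e, HQ.inv_e, HQ.inv_b, HQ.one_e]
      generalize x.e = p, x.b ⬝ᵥ x.a = q
      revert p q; decide)

/-- Real matrices on the 4096-dimensional module. -/
abbrev MW : Type := Matrix V12 V12 ℝ

/-- The orthogonal group of the 4096-dimensional module. -/
abbrev OW : Type := Matrix.orthogonalGroup V12 ℝ

/-- The matrix of `δ x ↦ sg (s x) • δ (f x)`. -/
noncomputable def mon (f : V12 → V12) (s : V12 → ZMod 2) : MW :=
  fun y x => if y = f x then sg (s x) else 0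

theorem mul_mon (M : MW) (f : V12 → V12) (s : V12 → ZMod 2) (y x : V12) :
    (M * mon f s) y x = M y (f x) * sg (s x) := by simp [mul_apply, mon]

theorem mon_mul (f f' : V12 → V12) (s s' : V12 → ZMod 2) :
    mon f s * mon f' s' = mon (fun x => f (f' x)) fun x => s (f' x) + s' x := by
  ext y x
  rw [mul_mon, mon, mon]
  split_ifs <;> simp [Cliff.s_add]

theorem mon_id : mon (fun x => x) (fun _ => 0) = 1 := by
  ext y x; simp [mon, one_apply, Cliff.s_zero]

theorem smul_mon (e : ZMod 2) (f : V12 → V12) (s : V12 → ZMod 2) :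
    sg e • mon f s = mon f fun x => e + s x := by
  ext y x
  rw [Matrix.smul_apply, mon, mon]
  split_ifs <;> simp [Cliff.s_add]

theorem mon_mem {f : V12 → V12} (hf : Function.Injective f) (s : V12 → ZMod 2) :
    mon f s ∈ Matrix.orthogonalGroup V12 ℝ := by
  rw [Matrix.mem_orthogonalGroup_iff']
  ext y x
  rw [mul_mon, transpose_apply, mon, one_apply]
  by_cases h : y = x
  · simp [h, Cliff.s_sq]
  · rw [if_neg h, if_neg (fun e => h (hf e).symm), zero_mul]

/-- The matrix of an element of the extraspecial group. -/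
noncomputable def heisM (q : HQ) : MW := mon (fun x => x + q.a) fun x => q.e + q.b ⬝ᵥ x

theorem heisM_mul (x y : HQ) : heisM (x * y) = heisM x * heisM y := by
  rw [heisM, heisM, heisM, mon_mul]
  congr 1
  · funext u; simp only [HQ.mul_a]; abel
  · funext u; simp only [HQ.mul_e, HQ.mul_b, add_dotProduct, dotProduct_add]; ring

theorem heisM_one : heisM 1 = 1 := by
  rw [← mon_id, heisM]; congr 1 <;> funext u <;> simp

theorem smul_heisM (e : ZMod 2) (q : HQ) : sg e • heisM q = heisM ⟨q.a, q.b, e + q.e⟩ := by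
  rw [heisM, smul_mon, heisM]; congr 1; funext u; simp only [add_assoc]

/-- The faithful representation of the extraspecial group. -/
noncomputable def heis : HQ →* OW where
  toFun q := ⟨heisM q, mon_mem (add_left_injective _) _⟩
  map_one' := Subtype.ext heisM_one
  map_mul' x y := Subtype.ext (heisM_mul x y)

@[simp] theorem coe_heis (q : HQ) : (heis q : MW) = heisM q := rfl

/-- The commutator form. -/
def comm (x y : HQ) : ZMod 2 := x.b ⬝ᵥ y.a + y.b ⬝ᵥ x.a

theorem heisM_comm (x y : HQ) : heisM x * heisM y = sg (comm x y) • (heisM y * heisM x) := by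
  rw [← heisM_mul, ← heisM_mul, smul_heisM]
  congr 1
  ext1
  · exact add_comm _ _
  · exact add_comm _ _
  · simp only [HQ.mul_e, comm]
    generalize x.e = p, y.e = q, x.b ⬝ᵥ y.a = r, y.b ⬝ᵥ x.a = t
    revert p q r t; decide

/-- Bit `k` of `n`. -/
def bit (n k : ℕ) : ZMod 2 := if n.testBit k then 1 else 0

/-- The vector of the low twelve bits. -/
def bv (n : ℕ) : V12 := fun k => bit n k

/-- Decoding of `a + 2^12 b + 2^24 e`. -/
def HQ.ofNat (n : ℕ) : HQ := ⟨bv n, bv (n / 4096), bit n 24⟩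

/-- The lattice vectors with `psi (uV k) = (0, e_k)`, coordinate lists. -/
def uL : List (List ℤ) :=
  [[0, 0, 0, 0, 0, 0, 0, 0, 0, 0, 0, 0, 4, 0, 0, 0, 0, 0, 0, 0, 0, 0, 0, -4],
  [0, 0, 0, 0, 0, 0, 0, 0, 0, 0, 0, 0, 0, 4, 0, 0, 0, 0, 0, 0, 0, 0, 0, -4],
  [0, 0, 0, 0, 0, 0, 0, 0, 0, 0, 0, 0, 0, 0, 4, 0, 0, 0, 0, 0, 0, 0, 0, -4],
  [0, 0, 0, 0, 0, 0, 0, 0, 0, 0, 0, 0, 0, 0, 0, 4, 0, 0, 0, 0, 0, 0, 0, -4],
  [0, 0, 0, 0, 0, 0, 0, 0, 0, 0, 0, 0, 0, 0, 0, 0, 4, 0, 0, 0, 0, 0, 0, -4],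
  [0, 0, 0, 0, 0, 0, 0, 0, 0, 0, 0, 0, 0, 0, 0, 0, 0, 4, 0, 0, 0, 0, 0, -4],
  [0, 0, 0, 0, 0, 0, 0, 0, 0, 0, 0, 0, 0, 0, 0, 0, 0, 0, 4, 0, 0, 0, 0, -4],
  [0, 0, 0, 0, 0, 0, 0, 0, 0, 0, 0, 0, 0, 0, 0, 0, 0, 0, 0, 4, 0, 0, 0, -4],
  [0, 0, 0, 0, 0, 0, 0, 0, 0, 0, 0, 0, 0, 0, 0, 0, 0, 0, 0, 0, 4, 0, 0, -4],
  [0, 0, 0, 0, 0, 0, 0, 0, 0, 0, 0, 0, 0, 0, 0, 0, 0, 0, 0, 0, 0, 4, 0, -4],
  [0, 0, 0, 0, 0, 0, 0, 0, 0, 0, 0, 0, 0, 0, 0, 0, 0, 0, 0, 0, 0, 0, 4, -4],
  [0, 0, 0, 0, 0, 0, 0, 0, 0, 0, 0, 0, 0, 0, 0, 0, 0, 0, 0, 0, 0, 0, 0, 8]]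

/-- The lattice vectors with `psi (wV k) = (e_k, 0)`, coordinate lists. -/
def wL : List (List ℤ) :=
  [[2, 2, 2, 2, 2, 0, 0, 2, 0, 0, 2, 0, 2, -4, 0, 0, 0, -4, -4, -4, 0, 0, -4, 20],
  [0, 2, 2, 2, 2, 2, 0, 0, 2, 0, 0, 2, -4, 2, 0, 0, 0, 0, 0, 0, -4, 0, 0, 8],
  [2, 2, 0, 0, 0, 2, 2, 2, 0, 2, 2, 0, 0, -4, 2, 0, 0, 0, 0, -4, 0, -4, -4, 16],
  [0, 2, 2, 0, 0, 0, 2, 2, 2, 0, 2, 2, 0, 0, 0, 2, 0, -4, -4, -4, 0, -4, 0, 16],
  [2, 2, 0, 0, 2, 0, 0, 0, 2, 2, 2, 2, 0, 0, 0, 0, 2, -4, -4, 0, 0, -4, -4, 16],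
  [2, 0, 0, 2, 2, 2, 0, 2, 0, 2, 0, 2, -4, 0, 0, 0, -4, 2, 0, 0, 0, 0, 0, 8],
  [2, 0, 2, 2, 0, 2, 2, 2, 2, 0, 0, 0, -4, 0, 0, -4, 0, 0, 2, 0, -4, 0, 0, 12],
  [0, 2, 0, 2, 2, 0, 2, 2, 2, 2, 0, 0, -4, 0, -4, -4, 0, 0, 0, 2, 0, 0, 0, 12],
  [0, 0, 2, 0, 2, 2, 0, 2, 2, 2, 2, 0, 0, -4, 0, 0, 0, 0, -4, 0, 2, -4, -4, 16],
  [0, 0, 0, 2, 0, 2, 2, 0, 2, 2, 2, 2, -4, 0, -4, -4, -4, 0, 0, 0, -4, 2, 0, 20],
  [2, 2, 2, 2, 0, 0, 2, 0, 0, 2, 0, 2, -4, 0, -4, 0, -4, 0, 0, 0, 0, 0, 2, 12],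
  [1, 1, 1, 1, 1, 1, 1, 1, 1, 1, 1, 1, 1, 1, 1, 1, 1, 1, 1, 1, 1, 1, 1, -3]]

theorem uwL_lee : allLT 12 (fun k => and' (isLee (getL [] uL k)) (isLee (getL [] wL k))) = true := by
  decide +kernel

/-- The lattice vectors with `psi (uV k) = (0, e_k)`. -/
noncomputable def uV (k : Fin 12) : leechLattice :=
  ⟨vecOf (getL [] uL k), mem_of_isLee ((and'_eq_true _ _).1 ((allLT_iff _ _).1 uwL_lee k k.2)).1⟩

/-- The lattice vectors with `psi (wV k) = (e_k, 0)`. -/
noncomputable def wV (k : Fin 12) : leechLattice :=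
  ⟨vecOf (getL [] wL k), mem_of_isLee ((and'_eq_true _ _).1 ((allLT_iff _ _).1 uwL_lee k k.2)).2⟩

/-- The bilinear form of the lattice modulo 2. -/
def ip2 (v w : leechLattice) : ZMod 2 :=
  ((dotInt (v : GolayPt → ℤ) (w : GolayPt → ℤ) / 8 : ℤ) : ZMod 2)

theorem ip2_add (v v' w : leechLattice) : ip2 (v + v') w = ip2 v w + ip2 v' w := by
  have a := eight_dvd_dotInt v.2 w.2
  have b := eight_dvd_dotInt v'.2 w.2
  rw [ip2, ip2, ip2, AddSubgroup.coe_add, Leech.dotInt_add_left, ← Int.cast_add]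
  congr 1; omega

theorem ip2_neg (v w : leechLattice) : ip2 (-v) w = ip2 v w := by
  have a := ip2_add v (-v) w
  have b := ip2_add 0 0 w
  rw [add_neg_cancel] at a
  rw [add_zero, GD.add_self] at b
  exact (eq_of_add_eq_zero (a.symm.trans b)).symm

/-- The identification of the Leech lattice modulo 2 with `HQ` modulo its centre. -/
noncomputable def psi (v : leechLattice) : HQ := ⟨fun k => ip2 v (uV k), fun k => ip2 v (wV k), 0⟩

theorem psi_neg (v : leechLattice) : psi (-v) = psi v := by simp only [psi, ip2_neg]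

/-- Compatible pairs: `h` conjugates `psi v` to `± psi (g v)`. -/
def Ct : Subgroup (Co0 × OW) where
  carrier := {x | ∀ v : leechLattice, ∃ e : ZMod 2,
    (x.2 : MW) * heisM (psi v) = sg e • (heisM (psi (x.1 • v)) * (x.2 : MW))}
  one_mem' v := ⟨0, by simp [Cliff.s_zero]⟩
  mul_mem' := by
    intro x y hx hy v
    obtain ⟨e, he⟩ := hy v
    obtain ⟨e', he'⟩ := hx (y.1 • v)
    refine ⟨e + e', ?_⟩
    rw [Prod.snd_mul, Prod.fst_mul, Submonoid.coe_mul, mul_assoc, he, mul_smul_comm, ← mul_assoc,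
      he', smul_mul_assoc, smul_smul, mul_smul x.1, mul_assoc, sg_add]
  inv_mem' := by
    intro x hx v
    obtain ⟨e, he⟩ := hx (x.1⁻¹ • v)
    refine ⟨e, ?_⟩
    rw [smul_inv_smul] at he
    have h1 : ((x.2⁻¹ : OW) : MW) * (x.2 : MW) = 1 := by
      rw [← Submonoid.coe_mul, inv_mul_cancel]; rfl
    have h2 : (x.2 : MW) * ((x.2⁻¹ : OW) : MW) = 1 := by
      rw [← Submonoid.coe_mul, mul_inv_cancel]; rfl
    have h3 := congrArg (fun M => sg e • (((x.2⁻¹ : OW) : MW) * M * ((x.2⁻¹ : OW) : MW))) he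
    simp only [mul_smul_comm, smul_mul_assoc, smul_smul, Cliff.s_sq, one_smul] at h3
    rw [← mul_assoc, h1, one_mul, mul_assoc, mul_assoc, h2, mul_one] at h3
    exact h3.symm

/-- The scalar `-1` of the orthogonal group. -/
noncomputable def negW : OW := heis ⟨0, 0, 1⟩

theorem coe_negW : (negW : MW) = -1 := by
  have := smul_heisM 1 1
  rw [heisM_one, sg, Cliff.s_one, neg_smul, one_smul] at this
  exact this.symm

/-- The pair `(-1,-1)`. -/
noncomputable def negT : Ct := ⟨(negOne, negW), fun v => ⟨0, by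
  simp [coe_negW, psi_neg, Cliff.s_zero]⟩⟩

theorem negT_comm (x : Ct) : x * negT = negT * x := by
  refine Subtype.ext (Prod.ext (negOne_comm _) (Subtype.ext ?_))
  show (x.1.2 : MW) * (negW : MW) = (negW : MW) * (x.1.2 : MW)
  simp [coe_negW]

instance : (Subgroup.zpowers negT).Normal := ⟨by
  rintro _ ⟨k, rfl⟩ g
  have : Commute g (negT ^ k) := Commute.zpow_right (negT_comm g) k
  rw [this.eq, mul_inv_cancel_right]
  exact ⟨k, rfl⟩⟩

/-- The group `2^(1+24).Co₁`. -/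
def C : Type := Ct ⧸ Subgroup.zpowers negT

noncomputable instance : Group C := inferInstanceAs (Group (Ct ⧸ Subgroup.zpowers negT))

/-- The projection onto `C`. -/
noncomputable def mkC : Ct →* C := QuotientGroup.mk' _

/-- The extraspecial group inside the group of compatible pairs. -/
noncomputable def qT : HQ →* Ct where
  toFun q := ⟨(1, heis q), fun v => ⟨comm q (psi v), by simpa using heisM_comm q (psi v)⟩⟩
  map_one' := by ext1; simp
  map_mul' x y := by ext1; simp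

/-- The extraspecial group inside `C`. -/
noncomputable def qC : HQ →* C := mkC.comp qT

open Classical in
/-- Conjugation: `qC (cj c q) = c * qC q * c⁻¹`. -/
noncomputable def cj (c : C) (q : HQ) : HQ :=
  if h : ∃ q', qC q' = c * qC q * c⁻¹ then h.choose else q

/-- The projection onto the first Conway group. -/
noncomputable def piC : C →* Cfsg.Spor.Co1 :=
  QuotientGroup.lift _ ((QuotientGroup.mk' _).comp ((MonoidHom.fst _ _).comp Ct.subtype)) (by
    rintro _ ⟨k, rfl⟩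
    rw [MonoidHom.mem_ker, map_zpow]
    have : ((QuotientGroup.mk' (Subgroup.center Co0)).comp
        ((MonoidHom.fst _ _).comp Ct.subtype)) negT = 1 :=
      (QuotientGroup.eq_one_iff _).2 (Subgroup.mem_center_iff.2 negOne_comm)
    rw [this, _root_.one_zpow])

/-- The parity basis vector. -/
def e11 : V12 := Pi.single 11 1

/-- Forget the parity bit. -/
def low (x : V12) : V12 := Function.update x 11 0

/-- The word of `C11` with the given coordinates (the parity bit is ignored). -/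
noncomputable def c11 (x : V12) : W := ∑ k : Fin 11, x k.castSucc • wordOf (cB k)

/-- Coordinates of a code word modulo the all-ones word. -/
def co (c : W) : V12 := fun k => if (k : ℕ) < 11 then c (pt (12 + k)) + c none else 0

/-- The character of `C11` given by a word. -/
noncomputable def hat (w : W) : V12 := fun k => if (k : ℕ) < 11 then dot (wordOf (cB k)) w else 0

/-- The element `x_d` for the loop element `d` over `c11 e` with sign `+`. -/
noncomputable def xl (e : V12) : HQ := ⟨low e, hat (TT (c11 e) 12), th (c11 e) (c11 e)⟩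

/-- The diagonal automorphism given by a word. -/
noncomputable def Xd (w : W) : HQ := ⟨(∑ p, w p) • e11, hat w, 0⟩

/-- The central involution. -/
def zq : HQ := ⟨0, 0, 1⟩
/-- `x_Ω = τ⁻¹ z τ`. -/
def XOM : HQ := ⟨0, e11, 0⟩
/-- `y_{-1} = τ z τ⁻¹`. -/
def S0 : HQ := ⟨0, e11, 1⟩
/-- An odd diagonal automorphism inverting `τ`. -/
def D0 : HQ := ⟨e11, 0, 0⟩
/-- The short involution `t` for the duad `{∞, 0}`; it commutes with `τ`. -/
noncomputable def tq : HQ := Xd (wordOf (2 ^ 23 + 1))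

/-- The element `x_d` for the loop element over any code word `o` with sign `+`. -/
noncomputable def xw (o : W) : HQ := xl (co o) * ⟨0, o none • e11, 0⟩

/-- The normal subgroup `2^(1+24)`. -/
noncomputable def Q : Subgroup C := qC.range
/-- The centraliser of the four-group `{1, z, XOM, S0}`: `2^(2+11+22).M₂₄`. -/
noncomputable def N : Subgroup C := Subgroup.centralizer {qC S0}
/-- The centraliser of `t`: `2^(1+1+22).Co₂`. -/
noncomputable def H : Subgroup C := Subgroup.centralizer {qC tq}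

/-- The matrix of `y_e`. -/
noncomputable def yM (e : V12) : MW := mon (fun x => x + (1 + x 11) • low e)
  fun x => th (c11 x) (c11 e) + x 11 * th (c11 e) (c11 x)

/-- `c` is the element `y_e`. -/
def IsY (e : V12) (c : C) : Prop := ∃ x : Ct, mkC x = c ∧ (x.1.2 : MW) = yM e ∧
  ∀ (v : leechLattice) (i : GolayPt),
    ((x.1.1 • v : leechLattice) : GolayPt → ℤ) i = sz (c11 e i) * (v : GolayPt → ℤ) i

/-- `c` is an even automorphism of the Parker loop over the permutation `σ`. -/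
def IsAut (σ : Equiv.Perm GolayPt) (c : C) : Prop := σ ∈ M24 ∧ ∃ x : Ct, mkC x = c ∧
  (∀ (v : leechLattice) (i : GolayPt),
    ((x.1.1 • v : leechLattice) : GolayPt → ℤ) (σ i) = (v : GolayPt → ℤ) i) ∧
  ∃ q : V12 → ZMod 2, q 0 = 0 ∧ (x.1.2 : MW) = mon (fun u => co (c11 u ∘ ⇑σ⁻¹) + u 11 • e11)
    fun u => q (low u) + (c11 u ∘ ⇑σ⁻¹) none * u 11

/-- The graph of the triality automorphism `n ↦ τ⁻¹ n τ` of `N`. -/
inductive Beta : C → C → Prop
  | one : Beta 1 1
  | mul {n m n' m' : C} : Beta n m → Beta n' m' → Beta (n * n') (m * m')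
  | y {e : V12} {c : C} : IsY e c → Beta c (qC (xl e))
  | x {e : V12} {c : C} : IsY e c →
      Beta (qC (xl e)) (c * qC (⟨0, th (c11 e) (c11 e) • e11, 0⟩ * xl e))
  | aut {σ : Equiv.Perm GolayPt} {c : C} : IsAut σ c → Beta c c
  | z : Beta (qC zq) (qC XOM)
  | s : Beta (qC S0) (qC zq)

/-- Gate `t + 4 * (l + 16 * m)`: `t = 0` shear `x_l += m·x`, `t = 1` sign `x_l (m·x)`,
`t = 2` unnormalised Hadamard gate at `l`, `t = 3` the element of `HQ` with code `m`. -/
noncomputable def gateM (g : ℕ) : MW :=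
  if g % 4 = 0 then mon (fun x => x + (bv (g / 64) ⬝ᵥ x) • bv (2 ^ (g / 4 % 16))) fun _ => 0
  else if g % 4 = 1 then
    mon (fun x => x) fun x => (bv (2 ^ (g / 4 % 16)) ⬝ᵥ x) * (bv (g / 64) ⬝ᵥ x)
  else if g % 4 = 2 then fun y x => if y = x ∨ y = x + bv (2 ^ (g / 4 % 16)) then
    sg ((bv (2 ^ (g / 4 % 16)) ⬝ᵥ x) * (bv (2 ^ (g / 4 % 16)) ⬝ᵥ y)) else 0
  else heisM (HQ.ofNat (g / 64))

/-- The product of a list of gates; the head of the list is applied first. -/
noncomputable def gatesM : List ℕ → MW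
  | [] => 1
  | g :: l => gatesM l * gateM g

/-- Description of an element of `C`: `xi = 1` if the lattice map starts with the sextet map
(and the gates are scaled by `1/4`), a permutation code, a sign mask, a gate list. -/
structure Let where
  xi : ℕ
  perm : ℕ
  sgn : ℕ
  gates : List ℕ

/-- `dg tetC i` is the number of the tetrad of the point `i` in the sextet of `{∞,0,1,2}`. -/
def tetC : ℕ := 0x00443110a11942420c64108a128000

/-- The element `c` is described by `L`. -/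
def LSpec (L : Let) (c : C) : Prop := ∃ x : Ct, mkC x = c ∧
  (x.1.2 : MW) = ((1 / 4 : ℝ) ^ L.xi) • gatesM L.gates ∧
  ∀ (v : leechLattice) (i : GolayPt),
    2 * ((x.1.1 • v : leechLattice) : GolayPt → ℤ) (pt (dg L.perm (ix i))) =
      sz (bit L.sgn (ix i)) * (2 * (v : GolayPt → ℤ) i - L.xi *
        ∑ p ∈ Finset.univ.filter fun p => dg tetC (ix p) = dg tetC (ix i), (v : GolayPt → ℤ) p)

open Classical in
/-- The element described by `L`. -/
noncomputable def elL (L : Let) : C := if h : ∃ c, LSpec L c then h.choose else 1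

end Cfsg.Agent.MonU
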